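import Cfsg.Agent.BlkStar.StarIrr

/-!
The star product of a character of a block with a fusion stable character of the defect group has
integral coefficients.
-/

noncomputable section

set_option autoImplicit false
set_option maxHeartbeats 800000
set_option linter.unusedSectionVars false
set_option linter.style.haveILetI false

namespace Cfsg.Agent.BlkStar

open MonoidAlgebra Cfsg Cfsg.Agent.BrauerPairs Cfsg.Agent.BrauerPairs.Nil
open Cfsg.Agent.BlkChar.Contrib
open scoped ComplexConjugate Classical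

universe u

variable {p : ℕ} [Fact p.Prime] {M : Ideal AlgInt} [M.IsPrime] [CharP (Block.ResF M) p]
  {G : Type u} [Group G] [Fintype G]

namespace SD

variable (D : SD p M G)

/-- A function on the defect group that is constant on the fusion classes. -/
def Stable (θ : D.P → ℂ) : Prop :=
  ∀ (w : G) (a : PairIdx M G) (x y : G × D.P), D.Link w a x → D.Link w a y → θ x.2 = θ y.2

/-- The value of a stable function at a subsection. -/
def gv (θ : D.P → ℂ) (w : G) (a : PairIdx M G) : ℂ :=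
  if h : ∃ x, D.Link w a x then θ h.choose.2 else 0

variable {D}

theorem gv_eq {θ : D.P → ℂ} (hs : D.Stable θ) {w : G} {a : PairIdx M G} {x : G × D.P}
    (h : D.Link w a x) : D.gv θ w a = θ x.2 := by
  have hex : ∃ x, D.Link w a x := ⟨x, h⟩
  rw [gv, dif_pos hex]
  exact hs _ _ _ _ hex.choose_spec h

theorem gv_eq_zero {θ : D.P → ℂ} {w : G} {a : PairIdx M G} (h : ∀ x, ¬ D.Link w a x) :
    D.gv θ w a = 0 := dif_neg fun ⟨x, hx⟩ => h x hx

variable (D)

theorem gv_conj {θ : D.P → ℂ} (hs : D.Stable θ) {g w : G} {a b : PairIdx M G}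
    (hg : CjRel (pairSys M G) g a b) : D.gv θ (g * w * g⁻¹) b = D.gv θ w a := by
  by_cases h : ∃ x, D.Link w a x
  · obtain ⟨x, hx⟩ := h
    rw [gv_eq hs hx, gv_eq hs (hx.conj hg)]
  · have h1 : ∀ x, ¬ D.Link (g * w * g⁻¹) b x := fun x hx => h ⟨(g⁻¹ * x.1, x.2), by
      have h2 : D.Link (g⁻¹ * (g * w * g⁻¹) * g⁻¹⁻¹) a (g⁻¹ * x.1, x.2) := hx.conj hg.symm
      rwa [show g⁻¹ * (g * w * g⁻¹) * g⁻¹⁻¹ = w by group] at h2⟩
    rw [gv_eq_zero fun x hx => h ⟨x, hx⟩, gv_eq_zero h1]

/-- The star product with a function on the defect group. -/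
def gstar (θ : D.P → ℂ) (χ : G → ℂ) : G → ℂ := starWith p (D.gv θ) χ

theorem gv_mul_secReg_of_notMem (θ : D.P → ℂ) (χ : G → ℂ) {w : G} {a : PairIdx M G}
    {φ : IrrCharacter G} (hφ : φ ∉ D.B.1) :
    D.gv θ w a * secReg p a w χ (φ : G → ℂ) = 0 := by
  by_cases h : ∃ x, D.Link w a x
  · obtain ⟨x, hx⟩ := h
    obtain ⟨k, hk⟩ := hx.exists_orderOf
    refine mul_eq_zero_of_right _ (Finset.sum_eq_zero fun y hy => ?_)
    obtain ⟨-, h1, h2⟩ := Finset.mem_filter.1 hy
    rw [D.phi_eq_zero_of_notMem hk hx.fst_eq hx.pairOf hφ h1 h2, map_zero, mul_zero]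
  · rw [gv_eq_zero fun x hx => h ⟨x, hx⟩, zero_mul]

theorem gstar_isClassFunction {θ : D.P → ℂ} (hs : D.Stable θ) {χ : G → ℂ}
    (hχ : IsClassFunction G χ) : IsClassFunction G (D.gstar θ χ) := by
  intro g x
  obtain ⟨h1, h2⟩ := Element.pPart_conj (Fact.out : p.Prime) x g
  simp only [gstar, starWith, h1, h2]
  refine sum_pairsAt_conj x _ _ _ fun a b _ hab => ?_
  rw [D.gv_conj hs hab, phi_cjRel hab _ hχ]

theorem sum_gstar_mul_conj (θ : D.P → ℂ) (χ φ : IrrCharacter G) :
    ∑ g : G, D.gstar θ (χ : G → ℂ) g * conj ((φ : G → ℂ) g) =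
      ∑ w ∈ pElts p G, ∑ a ∈ pairsAt w,
        D.gv θ w a * secReg p a w (χ : G → ℂ) (φ : G → ℂ) := by
  have h := sum_starWith_mul_conj D.isPModular (D.gv θ) (fun _ _ => 1) χ φ
  rw [starWith_one] at h
  simpa [gstar] using h

theorem classInner_gstar_of_notMem (θ : D.P → ℂ) (χ : IrrCharacter G) {φ : IrrCharacter G}
    (hφ : φ ∉ D.B.1) : classInner (D.gstar θ (χ : G → ℂ)) (φ : G → ℂ) = 0 := by
  rw [classInner, D.sum_gstar_mul_conj]
  exact mul_eq_zero_of_right _ (Finset.sum_eq_zero fun w _ => Finset.sum_eq_zero fun a _ =>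
    D.gv_mul_secReg_of_notMem θ _ hφ)


/-- The part of the inner product of a star product on the section of `w`. -/
def gSum (θ : D.P → ℂ) (χ φ : G → ℂ) (w : G) : ℂ :=
  ∑ a ∈ pairsAt w, D.gv θ w a * secReg p a w χ φ

/-- The normalized part of the inner product. -/
def gVal (θ : D.P → ℂ) (χ φ : G → ℂ) (w : G) : ℂ :=
  ((p ^ (Nat.card G).factorization p : ℕ) : ℂ) /
    (Nat.card (Subgroup.centralizer ({w} : Set G)) : ℂ) * D.gSum θ χ φ w

theorem gSum_eq_zero {θ : D.P → ℂ} (χ φ : G → ℂ) {w : G} (hw : w ∉ pElts p G) :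
    D.gSum θ χ φ w = 0 :=
  Finset.sum_eq_zero fun a _ => by
    rw [gv_eq_zero fun x hx => hw (mem_pElts.2 hx.exists_orderOf), zero_mul]

theorem sum_gstar_eq_sum_gSum (θ : D.P → ℂ) (χ φ : IrrCharacter G) :
    ∑ g : G, D.gstar θ (χ : G → ℂ) g * conj ((φ : G → ℂ) g) =
      ∑ w : G, D.gSum θ (χ : G → ℂ) (φ : G → ℂ) w := by
  rw [D.sum_gstar_mul_conj]
  exact Finset.sum_subset (Finset.subset_univ _) fun w _ hw => D.gSum_eq_zero _ _ hw

theorem gVal_isClassFunction {θ : D.P → ℂ} (hs : D.Stable θ) (χ φ : IrrCharacter G) :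
    IsClassFunction G (D.gVal θ (χ : G → ℂ) (φ : G → ℂ)) := by
  intro w x
  have hmap : (Subgroup.centralizer ({w} : Set G)).map (MulAut.conj x).toMonoidHom =
      Subgroup.centralizer ({x * w * x⁻¹} : Set G) := by
    rw [← Brauer.centralizer_zpowers_eq, ← Brauer.centralizer_zpowers_eq,
      ← centralizer_map_conj, MonoidHom.map_zpowers]
    rfl
  have hcard : Nat.card (Subgroup.centralizer ({x * w * x⁻¹} : Set G)) =
      Nat.card (Subgroup.centralizer ({w} : Set G)) := by
    rw [← hmap]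
    exact Subgroup.card_map_of_injective (MulAut.conj x).injective
  simp only [gVal, gSum, hcard]
  congr 1
  refine sum_pairsAt_conj x w _ _ fun a b _ hab => ?_
  rw [D.gv_conj hs hab, secReg_cjRel hab _ (Char.irr_isClassFunction χ.2)
    (Char.irr_isClassFunction φ.2)]

theorem gterm_family {θ : D.P → ℂ} (hθ : IsCharacter D.P θ) (hs : D.Stable θ) (χ φ : IrrCharacter G) {w : G} {K : ℕ}
    (hwK : w ^ p ^ K = 1) {a : PairIdx M G} (ha : a.1 = Subgroup.zpowers w) :
    (fun j : (ZMod (p ^ K))ˣ => D.gv θ (w ^ (j : ZMod (p ^ K)).val) a *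
      (((p ^ (Nat.card G).factorization p : ℕ) : ℂ) /
        (Nat.card (Subgroup.centralizer ({w} : Set G)) : ℂ) *
        secReg p a (w ^ (j : ZMod (p ^ K)).val) (χ : G → ℂ) (φ : G → ℂ))) ∈
      GalAvg.cycFun (p ^ K) := by
  obtain ⟨Q, f⟩ := a
  obtain rfl : Q = Subgroup.zpowers w := ha
  haveI := Fintype.ofFinite (Subgroup.centralizer (Subgroup.zpowers w : Set G))
  have hS := isSection_of_zpowers (p := p) (K := K) (w := w) (u := w) rfl hwK
  set A := (Nat.card G).factorization p with hA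
  set d := blockDefect p f.1 with hd
  have hdA : d ≤ A := (Nat.sub_le _ _).trans
    ((Nat.factorization_le_iff_dvd Nat.card_pos.ne' Nat.card_pos.ne').2
      (Subgroup.card_subgroup_dvd_card _) p)
  have hp0 : (p : ℂ) ≠ 0 := Nat.cast_ne_zero.2 (Fact.out : p.Prime).ne_zero
  have hcev : (fun j : (ZMod (p ^ K))ˣ => ((p ^ A : ℕ) : ℂ) /
      (Nat.card (Subgroup.centralizer ({w} : Set G)) : ℂ) *
      secReg p (⟨Subgroup.zpowers w, f⟩ : PairIdx M G) (w ^ (j : ZMod (p ^ K)).val)
        (χ : G → ℂ) (φ : G → ℂ)) ∈ GalAvg.cycFun (p ^ K) := by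
    convert mul_mem (natCast_mem (GalAvg.cycFun (p ^ K)) (p ^ (A - d)))
      (BlockHeight.cev_mem_cycFun (coefA hS f.1 χ φ)) using 1
    funext j
    rw [Pi.mul_apply, Pi.natCast_apply, ← cM_eq_cev, ← secReg_eq_cM hS f χ φ,
      ← Brauer.centralizer_zpowers_eq w, ← hd, ← mul_assoc, ← mul_div_assoc, ← Nat.cast_mul,
      ← pow_add, Nat.sub_add_cancel hdA]
  by_cases h : ∃ x, D.Link w ⟨Subgroup.zpowers w, f⟩ x
  · obtain ⟨x, hx⟩ := h
    have h1 : x.2 ^ (p ^ K) = 1 := by
      have h2 := hwK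
      rw [← hx.1, conj_pow, mul_inv_eq_one, mul_eq_left] at h2
      exact Subtype.ext (by simpa using h2)
    convert mul_mem (GalAvg.isCharacter_pow_mem hθ x.2 h1) hcev using 1
    funext j
    rw [Pi.mul_apply, gv_eq hs (hx.pow (NilData.zpowers_pow hwK j.isUnit))]
  · convert zero_mem (GalAvg.cycFun (p ^ K)) using 1
    funext j
    rw [Pi.zero_apply, gv_eq_zero fun x hx => h ⟨(x.1, x.2 ^ ((j⁻¹ : (ZMod (p ^ K))ˣ) :
      ZMod (p ^ K)).val), ?_⟩, zero_mul]
    have h2 := hx.pow (n := ((j⁻¹ : (ZMod (p ^ K))ˣ) : ZMod (p ^ K)).val) (by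
      rw [pow_val_pow_val_inv hwK, NilData.zpowers_pow hwK j.isUnit])
    rwa [pow_val_pow_val_inv hwK] at h2

theorem gVal_family {θ : D.P → ℂ} (hθ : IsCharacter D.P θ) (hs : D.Stable θ) (χ φ : IrrCharacter G) {w : G} {K : ℕ}
    (hwK : w ^ p ^ K = 1) :
    (fun j : (ZMod (p ^ K))ˣ => D.gVal θ (χ : G → ℂ) (φ : G → ℂ) (w ^ (j : ZMod (p ^ K)).val)) ∈
      GalAvg.cycFun (p ^ K) := by
  have h : (fun j : (ZMod (p ^ K))ˣ =>
      D.gVal θ (χ : G → ℂ) (φ : G → ℂ) (w ^ (j : ZMod (p ^ K)).val)) =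
      ∑ a ∈ pairsAt w, fun j : (ZMod (p ^ K))ˣ => D.gv θ (w ^ (j : ZMod (p ^ K)).val) a *
        (((p ^ (Nat.card G).factorization p : ℕ) : ℂ) /
          (Nat.card (Subgroup.centralizer ({w} : Set G)) : ℂ) *
          secReg p a (w ^ (j : ZMod (p ^ K)).val) (χ : G → ℂ) (φ : G → ℂ)) := by
    funext j
    have hz := NilData.zpowers_pow hwK j.isUnit
    rw [Finset.sum_apply, gVal, gSum, pairsAt_congr hz, ← Brauer.centralizer_zpowers_eq,
      hz, Brauer.centralizer_zpowers_eq, Finset.mul_sum]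
    exact Finset.sum_congr rfl fun a _ => by ring
  rw [h]
  exact sum_mem fun a ha => D.gterm_family hθ hs χ φ hwK (mem_pairsAt.1 ha)

theorem gVal_isIntegral {θ : D.P → ℂ} (hθ : IsCharacter D.P θ) (hs : D.Stable θ) (χ φ : IrrCharacter G) (w : G) :
    IsIntegral ℤ (D.gVal θ (χ : G → ℂ) (φ : G → ℂ) w) := by
  by_cases hw : w ∈ pElts p G
  · haveI : Fact (1 < p ^ expK p G) :=
      ⟨Nat.one_lt_pow (Nat.succ_ne_zero _) (Fact.out : p.Prime).one_lt⟩
    have := GalAvg.isIntegral (D.gVal_family hθ hs χ φ (pow_expK hw)) 1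
    simpa [ZMod.val_one] using this
  · rw [gVal, D.gSum_eq_zero _ _ hw, mul_zero]
    exact isIntegral_zero

/-- The coefficients are integers up to a power of `p`. -/
theorem exists_int_pow_mul_gstar {θ : D.P → ℂ} (hθ : IsCharacter D.P θ) (hs : D.Stable θ) (χ φ : IrrCharacter G) :
    ∃ k : ℤ, ((p ^ (Nat.card G).factorization p : ℕ) : ℂ) *
      classInner (D.gstar θ (χ : G → ℂ)) (φ : G → ℂ) = k := by
  set T := D.gVal θ (χ : G → ℂ) (φ : G → ℂ) with hT
  set K := expK p G
  have hx : ((p ^ (Nat.card G).factorization p : ℕ) : ℂ) *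
      classInner (D.gstar θ (χ : G → ℂ)) (φ : G → ℂ) = (Nat.card G : ℂ)⁻¹ *
        ∑ w : G, (Nat.card (Subgroup.centralizer ({w} : Set G)) : ℂ) * T w := by
    rw [classInner, D.sum_gstar_eq_sum_gSum, mul_left_comm, Finset.mul_sum]
    refine congrArg _ (Finset.sum_congr rfl fun w _ => ?_)
    have : (Nat.card (Subgroup.centralizer ({w} : Set G)) : ℂ) ≠ 0 :=
      Nat.cast_ne_zero.2 Nat.card_pos.ne'
    rw [hT, gVal]
    field_simp
  have hint := isIntegral_avg (D.gVal_isClassFunction hs χ φ) (D.gVal_isIntegral hθ hs χ φ)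
  have hw : ∀ w ∈ pElts p G, ∃ k : ℤ, ∑ j : (ZMod (p ^ K))ˣ,
      (Nat.card (Subgroup.centralizer ({w ^ (j : ZMod (p ^ K)).val} : Set G)) : ℂ) *
        T (w ^ (j : ZMod (p ^ K)).val) = k := by
    intro w hw
    obtain ⟨k, hk⟩ := exists_int_sum (D.gVal_family hθ hs χ φ (pow_expK hw))
    refine ⟨(Nat.card (Subgroup.centralizer ({w} : Set G)) : ℤ) * k, ?_⟩
    rw [Int.cast_mul, Int.cast_natCast, ← hk, Finset.mul_sum]
    refine Finset.sum_congr rfl fun j _ => ?_
    rw [← Brauer.centralizer_zpowers_eq, NilData.zpowers_pow (pow_expK hw) j.isUnit,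
      Brauer.centralizer_zpowers_eq]
  choose k hk using hw
  have hsum : ((Fintype.card (ZMod (p ^ K))ˣ : ℕ) : ℂ) *
      ∑ w : G, (Nat.card (Subgroup.centralizer ({w} : Set G)) : ℂ) * T w =
      ((∑ w ∈ (pElts p G).attach, k w.1 w.2 : ℤ) : ℂ) := by
    rw [← Finset.sum_subset (Finset.subset_univ (pElts p G)) fun w _ hw => by
      rw [hT, gVal, D.gSum_eq_zero _ _ hw, mul_zero, mul_zero], Int.cast_sum]
    rw [← nsmul_eq_mul, ← Finset.card_univ, ← Finset.sum_const]
    rw [Finset.sum_congr (s₁ := (pElts p G).attach) rfl fun w _ => (hk w.1 w.2).symm,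
      Finset.sum_attach (pElts p G) fun w => ∑ j : (ZMod (p ^ K))ˣ,
      (Nat.card (Subgroup.centralizer ({w ^ (j : ZMod (p ^ K)).val} : Set G)) : ℂ) *
        T (w ^ (j : ZMod (p ^ K)).val)]
    conv_rhs => rw [Finset.sum_comm]
    refine Finset.sum_congr rfl fun j _ => ?_
    refine Finset.sum_bij' (fun w _ => w ^ ((j⁻¹ : (ZMod (p ^ K))ˣ) : ZMod (p ^ K)).val)
      (fun w _ => w ^ (j : ZMod (p ^ K)).val) (fun w hw => pow_mem_pElts hw _)
      (fun w hw => pow_mem_pElts hw _) (fun w hw => ?_) (fun w hw => ?_) fun w hw => ?_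
    · rw [← pow_mul, mul_comm, pow_mul]
      exact pow_val_pow_val_inv (pow_expK hw) j
    · exact pow_val_pow_val_inv (pow_expK hw) j
    · have h1 : (w ^ ((j⁻¹ : (ZMod (p ^ K))ˣ) : ZMod (p ^ K)).val) ^ (j : ZMod (p ^ K)).val = w := by
        rw [← pow_mul, mul_comm, pow_mul]
        exact pow_val_pow_val_inv (pow_expK hw) j
      simp only [h1]
  have hG : ((Fintype.card (ZMod (p ^ K))ˣ * Nat.card G : ℕ) : ℂ) ≠ 0 :=
    Nat.cast_ne_zero.2 (mul_ne_zero Fintype.card_pos.ne' Nat.card_pos.ne')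
  have hdiv : ((p ^ (Nat.card G).factorization p : ℕ) : ℂ) *
      classInner (D.gstar θ (χ : G → ℂ)) (φ : G → ℂ) =
      ((∑ w ∈ (pElts p G).attach, k w.1 w.2 : ℤ) : ℂ) /
        ((Fintype.card (ZMod (p ^ K))ˣ * Nat.card G : ℕ) : ℂ) := by
    rw [eq_div_iff hG, hx, ← hsum, Nat.cast_mul]
    field_simp
  rw [hdiv]
  exact GalAvg.int_of_isIntegral_div (hdiv ▸ hx ▸ hint)


/-- An idempotent sees the star product through the pair it sees. -/
theorem charLin_gstar_eq {θ : D.P → ℂ} (hs : D.Stable θ) (χ : IrrCharacter G) {u : G} {k : ℕ}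
    (hu : orderOf u = p ^ k) {i : MonoidAlgebra (Block.localRing M) G} (hi : i * i = i)
    (hifix : Fixed (Subgroup.zpowers u) i)
    (f : Blk M (Subgroup.centralizer (Subgroup.zpowers u : Set G)))
    (hif : trunc (Subgroup.zpowers u) (Block.toF M i) *
      (pairSys M G (Subgroup.zpowers u)).idem f = trunc (Subgroup.zpowers u) (Block.toF M i)) :
    Block.charLin (D.gstar θ (χ : G → ℂ)) (single u 1 * Block.toC M i) =
      D.gv θ u ⟨Subgroup.zpowers u, f⟩ *
        Block.charLin (χ : G → ℂ) (single u 1 * Block.toC M i) := by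
  have hex := exists_section_idem (M := M) (i := i) D.isPModular hu (Q := Subgroup.zpowers u) rfl hi
    hifix f hif
  obtain ⟨ε, hε, hεs, hεe, hεφ⟩ := hex
  have hχc := Char.irr_isClassFunction χ.2
  have hsc := D.gstar_isClassFunction hs hχc
  rw [hεφ _ hsc, hεφ _ hχc]
  set R := Finset.univ.filter (fun y : G => y ∈ (Subgroup.centralizer (Subgroup.zpowers u : Set G)) ∧ ¬ p ∣ orderOf y) with hR
  have hres : ∀ g : G → ℂ, (∀ h ∈ (Subgroup.centralizer (Subgroup.zpowers u : Set G)), ∀ y ∈ (Subgroup.centralizer (Subgroup.zpowers u : Set G)), g (h * y * h⁻¹) = g y) →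
      ∑ y : G, (ε.coeff y : ℂ) * g y = ∑ y ∈ R, (ε.coeff y : ℂ) * g y := by
    intro g hg
    rw [← Finset.sum_subset (Finset.subset_univ (Finset.univ.filter (fun y : G => y ∈ (Subgroup.centralizer (Subgroup.zpowers u : Set G))))) fun y _ hy => by
        rw [hεs y (by simpa using hy), ZeroMemClass.coe_zero, zero_mul],
      ← Finset.sum_filter_add_sum_filter_not _ (fun y : G => p ∣ orderOf y),
      Finset.filter_filter, Finset.filter_filter, sum_singular_eq_zero D.isPModular hε hεs hg,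
      zero_add]
  have hstar : ∀ h ∈ (Subgroup.centralizer (Subgroup.zpowers u : Set G)), ∀ y ∈ (Subgroup.centralizer (Subgroup.zpowers u : Set G)),
      D.gstar θ (χ : G → ℂ) (u * (h * y * h⁻¹)) = D.gstar θ (χ : G → ℂ) (u * y) := by
    intro h hh y _
    have hcu : u * h = h * u := Subgroup.mem_centralizer_iff.1 hh u (Subgroup.mem_zpowers u)
    rw [show u * (h * y * h⁻¹) = h * (u * y) * h⁻¹ by
      simp only [← mul_assoc, hcu]]
    exact hsc _ _
  rw [charLin_mul_toC]
  simp only [single_mul_single, Block.charLin_single, one_mul]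
  rw [hres _ hstar, Finset.sum_congr rfl fun y hy => by
    rw [gstar, starWith_mul _ _ hu (Finset.mem_filter.1 hy).2.1 (Finset.mem_filter.1 hy).2.2,
      Finset.mul_sum], Finset.sum_comm]
  have hterm : ∀ a ∈ pairsAt u, ∑ y ∈ R, (ε.coeff y : ℂ) * Phi a u (χ : G → ℂ) y =
      if a = ⟨Subgroup.zpowers u, f⟩ then
        Block.charLin (χ : G → ℂ) (single u 1 * Block.toC M ε) else 0 := by
    intro a ha
    obtain ⟨Q, g⟩ := a
    obtain rfl : Q = Subgroup.zpowers u := mem_pairsAt.1 ha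
    rw [← hres _ fun h hh y _ => phi_conj (a := (⟨_, g⟩ : PairIdx M G)) (Subgroup.mem_zpowers u)
      hχc hh y]
    have hsum : ∑ y : G, (ε.coeff y : ℂ) *
        Phi (⟨Subgroup.zpowers u, g⟩ : PairIdx M G) u (χ : G → ℂ) y =
        Block.charLin (χ : G → ℂ) (single u 1 * Block.toC M (idemO (Subgroup.centralizer (Subgroup.zpowers u : Set G)) g * ε)) := by
      rw [map_mul (Block.toC M), ← mul_assoc, charLin_mul_toC]
      rfl
    rw [hsum]
    have hcomm : Commute ε (idemO (Subgroup.centralizer (Subgroup.zpowers u : Set G)) g) :=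
      (CentralIn.commute (centralIn_idemO (Subgroup.centralizer (Subgroup.zpowers u : Set G)) g).fixed hεs).symm
    rw [← hcomm.eq]
    split_ifs with hag
    · rw [show g = f from eq_of_heq (Sigma.mk.inj_iff.1 hag).2, hεe]
    · have hgf : f ≠ g := fun h => hag (by rw [h])
      rw [← hεe, mul_assoc, idemO_mul_of_ne _ hgf, mul_zero, map_zero, mul_zero, map_zero]
  rw [Finset.sum_congr rfl fun a ha => show _ = D.gv θ u a *
      (∑ y ∈ R, (ε.coeff y : ℂ) * Phi a u (χ : G → ℂ) y) by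
    rw [Finset.mul_sum]
    exact Finset.sum_congr rfl fun y _ => by ring]
  rw [Finset.sum_congr rfl fun a ha => by rw [hterm a ha],
    Finset.sum_eq_single_of_mem (⟨Subgroup.zpowers u, f⟩ : PairIdx M G) (mem_pairsAt.2 rfl)
      fun a _ hne => by rw [if_neg hne, mul_zero], if_pos rfl]

/-- The star product gives characters of `p`-subgroups at idempotents with a Brauer image. -/
theorem isCharacter_charLin_gstar {θ : D.P → ℂ} (hθ : IsCharacter D.P θ) (hs : D.Stable θ) (χ : IrrCharacter G)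
    {Q : Subgroup G} {i : MonoidAlgebra (Block.localRing M) G} (hQ : IsPGroup p Q)
    (hi : OPrim Q i) (h0 : trunc Q (Block.toF M i) ≠ 0) :
    IsCharacter Q fun u : Q =>
      Block.charLin (D.gstar θ (χ : G → ℂ)) (single (u : G) 1 * Block.toC M i) := by
  obtain ⟨e, he⟩ := exists_top_block hQ hi h0
  have hkey : ∀ u : Q, ∃ a : PairIdx M G, a.1 = Subgroup.zpowers (u : G) ∧
      SLE (pairSys M G) p a ⟨Q, e⟩ ∧
      Block.charLin (D.gstar θ (χ : G → ℂ)) (single (u : G) 1 * Block.toC M i) =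
        D.gv θ u a * Block.charLin (χ : G → ℂ) (single (u : G) 1 * Block.toC M i) := by
    intro u
    obtain ⟨f, hf, -⟩ := existsUnique_sle (S := pairSys M G) (b := ⟨Q, e⟩) hQ
      (Subgroup.zpowers_le.2 u.2)
    obtain ⟨k, hk⟩ := IsPGroup.iff_orderOf.1 hQ u
    exact ⟨_, rfl, hf, D.charLin_gstar_eq hs χ (by rw [Subgroup.orderOf_coe, hk]) hi.idem
      (hi.fixed.mono (Subgroup.zpowers_le.2 u.2)) f (trunc_mul_of_sle hQ hi he h0 _ _ hf)⟩
  choose a ha hale haeq using hkey
  by_cases hB : PairOf (blockSysTop M) (pairSys M G) p D.B ⟨Q, e⟩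
  · obtain ⟨x, b, hx, hb⟩ := D.maxPair.exists_conj_sle hB
    have hmem : ∀ u : Q, x * (u : G) * x⁻¹ ∈ D.P := fun u => hb.le (by
      rw [← hx.1]
      exact ⟨u, u.2, rfl⟩)
    let cQ : Q →* D.P := MonoidHom.mk' (fun u : Q => (⟨x * u * x⁻¹, hmem u⟩ : D.P))
      fun v w => Subtype.ext (by simp [mul_assoc])
    have hμ : ∀ u : Q, D.gv θ u (a u) = θ (cQ u) := by
      intro u
      obtain ⟨a', ha'⟩ := exists_cjRel (S := pairSys M G) x (a u)
      have hl' : D.Link (u : G) (a u) (x⁻¹, cQ u) := by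
        refine ⟨?_, a', ((hale u).cjRel ha' hx).trans hb, ?_, ha'.symm⟩
        · show x⁻¹ * (x * u * x⁻¹) * x⁻¹⁻¹ = u
          group
        · show a'.1 = Subgroup.zpowers (x * u * x⁻¹)
          rw [← ha'.1, ha]
          exact MonoidHom.map_zpowers _ _
      rw [gv_eq hs hl']
    have hc := Char.isCharacter_mul (Char.isCharacter_comp hθ cQ)
      (isCharacter_charLin_single (Char.isCharacter_of_irr χ.2) Q
        (e := Block.toC M i) (by rw [← map_mul, hi.idem])
        fun _ hu => commute_single_toC hi.fixed hu)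
    convert hc using 1
    funext u
    rw [haeq, hμ]
    rfl
  · convert Char.isCharacter_zero (G := Q) using 1
    funext u
    rw [haeq, gv_eq_zero fun x hx => hB ((hale u).pairOf_iff.2 hx.pairOf), zero_mul]
    rfl

theorem memLocalRing_gstar_elementary {θ : D.P → ℂ} (hθ : IsCharacter D.P θ) (hs : D.Stable θ) (χ : IrrCharacter G)
    {E : Subgroup G} [Fintype E] (hE : IsElementary p E) {ψ : E → ℂ} (hψ : IsCharacter E ψ) :
    MemLocalRing M (classInner (fun e : E => D.gstar θ (χ : G → ℂ) e) ψ) := by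
  set f := D.gstar θ (χ : G → ℂ) with hf
  have hfc : IsClassFunction G f := D.gstar_isClassFunction hs (Char.irr_isClassFunction χ.2)
  obtain ⟨m, hm, -⟩ := Char.isCharacter_exists_coeff hψ
  have hsplit : classInner (fun e : E => f e) ψ =
      ∑ η : IrrCharacter E, (m η : ℂ) * classInner (fun e : E => f e) (η : E → ℂ) := by
    conv_lhs => rw [hm]
    simp only [classInner, Finset.sum_apply, nsmul_eq_mul, Pi.mul_apply, Pi.natCast_apply, map_sum,
      map_mul, map_natCast, Finset.mul_sum]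
    rw [Finset.sum_comm]
    exact Finset.sum_congr rfl fun η _ => Finset.sum_congr rfl fun e _ => by ring
  rw [hsplit]
  refine (Block.localRing M).sum_mem fun η _ =>
    (Block.localRing M).mul_mem (Block.memLocalRing_natCast _) ?_
  clear hsplit hm hψ
  obtain ⟨z, hz, hcop, k, hk⟩ := hE
  set L := Subgroup.zpowers z with hL
  obtain ⟨S⟩ : Nonempty (Sylow p E) := inferInstance
  have hnp : ¬ p ∣ Nat.card L := by
    rw [hL, Nat.card_zpowers]
    exact (Fact.out : p.Prime).coprime_iff_not_dvd.1 hcop.symm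
  have hScard : Nat.card (S : Subgroup E) = p ^ k := by
    rw [S.card_eq_multiplicity, ← Subgroup.card_mul_index L, hk,
      Nat.factorization_mul Nat.card_pos.ne' (pow_ne_zero _ (Fact.out : p.Prime).ne_zero),
      Finsupp.add_apply, Nat.factorization_eq_zero_of_not_dvd hnp,
      (Fact.out : p.Prime).factorization_pow, Finsupp.single_eq_same, zero_add]
  have hcompl : L.IsComplement' (S : Subgroup E) := by
    refine Subgroup.isComplement'_of_card_mul_and_disjoint ?_ ?_
    · rw [hScard, ← hk, L.card_mul_index]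
    · rw [disjoint_iff]
      apply Subgroup.inf_eq_bot_of_coprime
      rw [hScard]
      exact (((Fact.out : p.Prime).coprime_iff_not_dvd.2 hnp).symm).pow_right k
  -- the scalars
  have hcen : ∀ y : L, (y : E) ∈ Subgroup.center E := fun y => (Subgroup.zpowers_le.2 hz) y.2
  choose ω hω1 hω2 hω3 using fun y : L => Char.irr_mul_center η.2 (hcen y)
  have hθ1 : (η : E → ℂ) 1 ≠ 0 := Char.irr_one_ne_zero η.2
  have hωmul : ∀ y y' : L, ω (y * y') = ω y * ω y' := by
    intro y y'
    refine mul_right_cancel₀ hθ1 ?_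
    rw [← hω2, Subgroup.coe_mul, hω3, hω2, mul_assoc]
  let c : L → Block.localRing M := fun y => ⟨(Nat.card L : ℂ)⁻¹ * conj (ω y),
    (Block.localRing M).mul_mem (Block.memLocalRing_natCast_inv D.isPModular hnp)
      (Block.memLocalRing_of_isIntegral (IsIntegral.of_pow (orderOf_pos (y : E))
        (by rw [← map_pow, hω1, map_one]; exact isIntegral_one)))⟩
  have hL0 : (Nat.card L : ℂ) ≠ 0 := Nat.cast_ne_zero.2 Nat.card_pos.ne'
  set ε : MonoidAlgebra (Block.localRing M) G := ∑ y : L, single ((y : E) : G) (c y) with hε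
  have hεcoeff : ∀ g : G, ε.coeff g = ∑ y : L, if ((y : E) : G) = g then c y else 0 := by
    intro g
    simp only [hε, coeff_sum, Finsupp.coe_finsetSum, Finset.sum_apply, coeff_single,
      Finsupp.single_apply]
  have hcmul : ∀ y t : L, ((c y * c (y⁻¹ * t) : Block.localRing M) : ℂ) =
      (Nat.card L : ℂ)⁻¹ * (c t : ℂ) := by
    intro y t
    show (Nat.card L : ℂ)⁻¹ * conj (ω y) * ((Nat.card L : ℂ)⁻¹ * conj (ω (y⁻¹ * t))) =
      (Nat.card L : ℂ)⁻¹ * ((Nat.card L : ℂ)⁻¹ * conj (ω t))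
    have h1 : ω t = ω y * ω (y⁻¹ * t) := by rw [← hωmul, mul_inv_cancel_left]
    rw [h1, map_mul]
    ring
  have hεidem : ε * ε = ε := by
    rw [hε, Finset.sum_mul_sum]
    simp only [single_mul_single]
    rw [Finset.sum_congr rfl fun y _ => (Fintype.sum_equiv (Equiv.mulLeft y⁻¹)
      (fun t : L => single ((t : E) : G) (c y * c (y⁻¹ * t)))
      (fun x : L => single (((y : E) : G) * ((x : E) : G)) (c y * c x)) fun t => by
        simp only [Equiv.coe_mulLeft, Subgroup.coe_mul, Subgroup.coe_inv, mul_inv_cancel_left]).symm,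
      Finset.sum_comm]
    refine Finset.sum_congr rfl fun t _ => ?_
    refine Block.groupAlgebra_ext fun g => ?_
    simp only [coeff_sum, Finsupp.coe_finsetSum, Finset.sum_apply, coeff_single,
      Finsupp.single_apply]
    split_ifs
    · refine Subtype.ext ?_
      rw [AddSubmonoidClass.coe_finsetSum, Finset.sum_congr rfl fun y _ => hcmul y t,
        Finset.sum_const, Finset.card_univ, ← Nat.card_eq_fintype_card, nsmul_eq_mul,
        mul_inv_cancel_left₀ hL0]
    · exact Finset.sum_const_zero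
  set QG := (S : Subgroup E).map E.subtype with hQG
  let eQ : (S : Subgroup E) ≃* QG :=
    (S : Subgroup E).equivMapOfInjective E.subtype E.subtype_injective
  have heQ : ∀ q : (S : Subgroup E), ((eQ q : QG) : G) = ((q : E) : G) := fun q => rfl
  have hQGp : IsPGroup p QG := S.2.map _
  have hεfix : Fixed QG ε := by
    rintro h ⟨h₀, -, rfl⟩ g
    rw [hεcoeff, hεcoeff]
    refine Finset.sum_congr rfl fun y _ => ?_
    have hy : ((h₀ : E) : G) * ((y : E) : G) = ((y : E) : G) * ((h₀ : E) : G) :=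
      congrArg Subtype.val (Subgroup.mem_center_iff.1 (hcen y) h₀)
    refine if_congr ⟨fun e => ?_, fun e => ?_⟩ rfl rfl
    · have : E.subtype h₀ = (h₀ : G) := rfl
      rw [this] at e
      rw [show g = (h₀ : G)⁻¹ * ((h₀ : G) * g * (h₀ : G)⁻¹) * (h₀ : G) by group, ← e, mul_assoc,
        ← hy, inv_mul_cancel_left]
    · rw [← e]
      show _ = (h₀ : G) * _ * (h₀ : G)⁻¹
      rw [hy, mul_inv_cancel_right]
  let θQ : QG → ℂ := fun v => conj ((η : E → ℂ) ((eQ.symm v : (S : Subgroup E)) : E))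
  have hθQ : IsCharacter QG θQ := Char.isCharacter_conjFun
    (Char.isCharacter_comp (Char.isCharacter_of_irr η.2)
      ((S : Subgroup E).subtype.comp eQ.symm.toMonoidHom))
  have hkey : classInner (fun e : E => f e) (η : E → ℂ) = sumS f QG θQ ε := by
    have htoC : ∀ v : G, Block.charLin f (single v 1 * Block.toC M ε) =
        ∑ y : L, (c y : ℂ) * f (v * ((y : E) : G)) := by
      intro v
      rw [charLin_mul_toC]
      simp only [single_mul_single, Block.charLin_single, one_mul, hεcoeff,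
        AddSubmonoidClass.coe_finsetSum, Finset.sum_mul]
      rw [Finset.sum_comm]
      refine Finset.sum_congr rfl fun y _ => ?_
      rw [Finset.sum_eq_single ((y : E) : G)]
      · rw [if_pos rfl]
      · intro b _ hb
        rw [if_neg (Ne.symm hb), ZeroMemClass.coe_zero, zero_mul]
      · simp
    have hcardE : (Nat.card E : ℂ) = (Nat.card L : ℂ) * (Nat.card QG : ℂ) := by
      rw [← Nat.card_congr eQ.toEquiv, hScard, ← Nat.cast_mul, ← hk, L.card_mul_index]
    rw [classInner, sumS]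
    simp only [htoC]
    rw [← Fintype.sum_equiv (Equiv.ofBijective _ hcompl)
      (fun x : ↥(L : Set E) × ↥((S : Subgroup E) : Set E) =>
        f ((x.1.1 * x.2.1 : E) : G) * conj ((η : E → ℂ) (x.1.1 * x.2.1))) _ (fun _ => rfl),
      Fintype.sum_prod_type, Finset.sum_comm, hcardE, mul_inv, mul_comm (Nat.card L : ℂ)⁻¹,
      mul_assoc]
    congr 1
    rw [Finset.mul_sum]
    refine Fintype.sum_equiv eQ.toEquiv _ _ fun q => ?_
    show _ = conj ((η : E → ℂ) ((eQ.symm (eQ q) : (S : Subgroup E)) : E)) *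
      ∑ y : L, (c y : ℂ) * f (((eQ q : QG) : G) * ((y : E) : G))
    rw [eQ.symm_apply_apply, heQ, Finset.mul_sum, Finset.mul_sum]
    refine Finset.sum_congr rfl fun y _ => ?_
    show (Nat.card L : ℂ)⁻¹ * _ = conj _ * ((Nat.card L : ℂ)⁻¹ * conj (ω y) * _)
    rw [hω3 y, map_mul, Subgroup.coe_mul,
      show ((y : E) : G) * ((q : E) : G) = ((q : E) : G) * ((y : E) : G) from
        (congrArg Subtype.val (Subgroup.mem_center_iff.1 (hcen y) (q : E))).symm]
    ring
  rw [hkey]
  exact sumS_memLocalRing D.isPModular hfc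
    (fun Q i hQ hi h0 => D.isCharacter_charLin_gstar hθ hs χ hQ hi h0) QG hQGp θQ hθQ ε hεidem hεfix

theorem memLocalRing_gstar {θ : D.P → ℂ} (hθ : IsCharacter D.P θ) (hs : D.Stable θ) (χ φ : IrrCharacter G) :
    MemLocalRing M (classInner (D.gstar θ (χ : G → ℂ)) (φ : G → ℂ)) := by
  set f := D.gstar θ (χ : G → ℂ) with hf
  have hfc : IsClassFunction G f := D.gstar_isClassFunction hs (Char.irr_isClassFunction χ.2)
  obtain ⟨m, hm, hmem⟩ := CharDeep.brauer_local (G := G) (Fact.out : p.Prime)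
  have hgen : ∀ g ∈ CharDeep.elemComb (G := G) p, MemLocalRing M (classInner f g) := by
    intro g hg
    induction hg using AddSubgroup.closure_induction with
    | mem g hg =>
      obtain ⟨E, ψ, hE, hψ, rfl⟩ := hg
      haveI := Fintype.ofFinite E
      rw [CharInd.classInner_indFun_right E ψ hfc]
      exact D.memLocalRing_gstar_elementary hθ hs χ hE hψ
    | zero =>
      rw [show classInner f 0 = 0 by simp [classInner]]
      exact (Block.localRing M).zero_mem
    | add a b _ _ ha hb =>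
      rw [Char.classInner_add_right]
      exact (Block.localRing M).add_mem ha hb
    | neg a _ ha =>
      rw [show classInner f (-a) = -classInner f a by simp [classInner]]
      exact (Block.localRing M).neg_mem ha
  have h1 := hgen _ (CharDeep.mul_mem_elemComb hmem (Char.isCharacter_of_irr φ.2))
  rw [show (fun _ : G => (m : ℂ)) * (φ : G → ℂ) = (m : ℂ) • (φ : G → ℂ) from rfl,
    Char.classInner_smul_right, map_intCast] at h1
  have hm0 : (m : ℂ) ≠ 0 := Int.cast_ne_zero.2 fun h => hm (by simp [h])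
  have hinv : MemLocalRing M (m : ℂ)⁻¹ := Block.memLocalRing_inv (intCast_mem (Block.localRing M) m)
    fun h => hm ((Block.memLocalIdeal_intCast_iff D.isPModular m).1 h)
  have h2 := (Block.localRing M).mul_mem hinv h1
  rwa [inv_mul_cancel_left₀ hm0] at h2

theorem exists_int_gstar {θ : D.P → ℂ} (hθ : IsCharacter D.P θ) (hs : D.Stable θ) (χ φ : IrrCharacter G) :
    ∃ k : ℤ, classInner (D.gstar θ (χ : G → ℂ)) (φ : G → ℂ) = k := by
  obtain ⟨k, hk⟩ := D.exists_int_pow_mul_gstar hθ hs χ φ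
  have hp0 : ((p ^ (Nat.card G).factorization p : ℕ) : ℂ) ≠ 0 :=
    Nat.cast_ne_zero.2 (pow_ne_zero _ (Fact.out : p.Prime).ne_zero)
  have hx : classInner (D.gstar θ (χ : G → ℂ)) (φ : G → ℂ) =
      (k : ℂ) / ((p ^ (Nat.card G).factorization p : ℕ) : ℂ) := by
    rw [eq_div_iff hp0, mul_comm, hk]
  obtain ⟨t, ht⟩ := exists_int_mul_of_memLocalRing D.isPModular
    (hx ▸ D.memLocalRing_gstar hθ hs χ φ)
  refine ⟨t, ?_⟩
  rw [hx, ht, Int.cast_mul, Int.cast_natCast, mul_div_cancel_left₀ _ hp0]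



/-- Fusion stable means invariant under the morphisms of the fusion system on cyclic subgroups. -/
theorem stable_of_hom {θ : D.P → ℂ}
    (h : ∀ (u v : D.P), ∀ φ ∈ D.F.Hom (Subgroup.zpowers (u : G)),
      φ ⟨(u : G), Subgroup.mem_zpowers _⟩ = (v : G) → θ u = θ v) : D.Stable θ := by
  intro w a x y hx hy
  obtain ⟨hx1, ⟨Q, f⟩, hx2, hx3, hx4⟩ := hx
  obtain ⟨hy1, b₀, hy2, -, hy4⟩ := hy
  obtain rfl : Q = Subgroup.zpowers (x.2 : G) := hx3
  refine h x.2 y.2 _ ((mem_hom_iff D.isFS).2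
    ⟨Subgroup.zpowers_le.2 x.2.2, y.1⁻¹ * x.1, fun _ => rfl, f, hx2, b₀,
      hx4.trans hy4.symm, hy2⟩ :
    (MulAut.conj (y.1⁻¹ * x.1)).toMonoidHom.comp (Subgroup.zpowers (x.2 : G)).subtype ∈ _) ?_
  show y.1⁻¹ * x.1 * (x.2 : G) * (y.1⁻¹ * x.1)⁻¹ = (y.2 : G)
  calc _ = y.1⁻¹ * (x.1 * (x.2 : G) * x.1⁻¹) * y.1 := by group
    _ = y.1⁻¹ * (y.1 * (y.2 : G) * y.1⁻¹) * y.1 := by rw [hx1, hy1]
    _ = _ := by group

/-- A fusion stable character of the defect group gives an integral combination of the parts of the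
inner product on the subsections. -/
theorem exists_int_sum_gv {θ : D.P → ℂ} (hθ : IsCharacter D.P θ) (hs : D.Stable θ)
    (χ φ : IrrCharacter G) :
    ∃ k : ℤ, (Nat.card G : ℂ)⁻¹ * ∑ w ∈ pElts p G, ∑ a ∈ pairsAt w,
      D.gv θ w a * secReg p a w (χ : G → ℂ) (φ : G → ℂ) = k := by
  obtain ⟨k, hk⟩ := D.exists_int_gstar hθ hs χ φ
  exact ⟨k, by rw [← D.sum_gstar_mul_conj, ← hk, classInner]⟩

end SD

end Cfsg.Agent.BlkStar
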